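import Groth.Prelude.Def_Hoch
import Groth.Prelude.Def_CoactBr2
import Mathlib.RingTheory.Flat.Basic

/-! # Base change of Hochschild cochains of a comodule along a flat algebra -/

set_option autoImplicit false
universe u v w

open TensorProduct

noncomputable section

namespace Groth.Agent.HochLib.BaseChange

/-- Base change of a subquotient `Z/(B ⊓ Z)` along a flat algebra, transported along an equivalence. -/
theorem exists_subquotient_equiv {K : Type u} [CommRing K] {R : Type w} [CommRing R] [Algebra K R] [Module.Flat K R]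
    {C : Type v} [AddCommGroup C] [Module K C] {C' : Type*} [AddCommGroup C'] [Module R C']
    (φ : R ⊗[K] C →ₗ[R] C') (hφ : Function.Bijective φ) (Z B : Submodule K C) (Z' B' : Submodule R C')
    (hZ : ∀ c' : C', c' ∈ Z' ↔ ∃ y : R ⊗[K] Z, φ (Z.subtype.lTensor R y) = c')
    (hB : ∀ c' : C', c' ∈ B' ↔ ∃ y : R ⊗[K] B, φ (B.subtype.lTensor R y) = c') :
    ∃ e : R ⊗[K] (Z ⧸ B.comap Z.subtype) ≃ₗ[R] (Z' ⧸ B'.comap Z'.subtype),
      ∀ (r : R) (z : Z) (hz : φ (r ⊗ₜ[K] (z : C)) ∈ Z'),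
        e (r ⊗ₜ[K] (Submodule.mkQ (B.comap Z.subtype) z)) = Submodule.mkQ (B'.comap Z'.subtype) ⟨φ (r ⊗ₜ[K] (z : C)), hz⟩ := by
  classical
  letI : Module K C' := Module.compHom C' (algebraMap K R)
  haveI : IsScalarTower K R C' := IsScalarTower.of_algebraMap_smul fun _ _ => rfl
  have hz1 : ∀ z : Z, φ ((1 : R) ⊗ₜ[K] (z : C)) ∈ Z' := fun z =>
    (hZ _).2 ⟨(1 : R) ⊗ₜ[K] z, congrArg φ (LinearMap.lTensor_tmul R _ _ _)⟩
  let h₀ : Z →ₗ[K] (Z' ⧸ B'.comap Z'.subtype) :=
    { toFun := fun z => Submodule.mkQ (B'.comap Z'.subtype) ⟨φ ((1 : R) ⊗ₜ[K] (z : C)), hz1 z⟩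
      map_add' := fun x y => by
        rw [← map_add]
        refine congrArg _ (Subtype.ext ?_)
        simp [tmul_add]
      map_smul' := fun c x => by
        show _ = c • _
        rw [← algebraMap_smul R c (Submodule.mkQ (B'.comap Z'.subtype) _), ← map_smul]
        refine congrArg _ (Subtype.ext ?_)
        show φ ((1 : R) ⊗ₜ[K] (c • (x : C))) = algebraMap K R c • φ ((1 : R) ⊗ₜ[K] (x : C))
        rw [← map_smul, algebraMap_smul, tmul_smul] }
  have hker : B.comap Z.subtype ≤ LinearMap.ker h₀ := by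
    intro z hz
    refine (Submodule.Quotient.mk_eq_zero _).2 ?_
    refine (hB _).2 ⟨(1 : R) ⊗ₜ[K] ⟨(z : C), hz⟩, congrArg φ (LinearMap.lTensor_tmul R _ _ _)⟩
  let h : (Z ⧸ B.comap Z.subtype) →ₗ[K] (Z' ⧸ B'.comap Z'.subtype) := Submodule.liftQ _ h₀ hker
  let Λ : R ⊗[K] (Z ⧸ B.comap Z.subtype) →ₗ[R] (Z' ⧸ B'.comap Z'.subtype) := LinearMap.liftBaseChange R h
  let mk₁ : Z →ₗ[K] (Z ⧸ B.comap Z.subtype) := Submodule.mkQ _
  have hy : ∀ y : R ⊗[K] Z, φ (Z.subtype.lTensor R y) ∈ Z' := fun y => (hZ _).2 ⟨y, rfl⟩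
  have hΛ : ∀ y : R ⊗[K] Z, Λ (mk₁.lTensor R y) =
      Submodule.mkQ (B'.comap Z'.subtype) ⟨φ (Z.subtype.lTensor R y), hy y⟩ := by
    intro y
    induction y using TensorProduct.induction_on with
    | zero =>
      rw [map_zero, map_zero]
      exact ((Submodule.Quotient.mk_eq_zero _).2 (by simp)).symm
    | add a b ha hb =>
      rw [map_add, map_add, ha, hb, ← map_add]
      refine congrArg _ (Subtype.ext ?_)
      simp
    | tmul r z =>
      show r • h₀ z = _
      show r • Submodule.mkQ (B'.comap Z'.subtype) _ = _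
      rw [← map_smul]
      refine congrArg _ (Subtype.ext ?_)
      show r • φ ((1 : R) ⊗ₜ[K] (z : C)) = φ (Z.subtype.lTensor R (r ⊗ₜ[K] z))
      rw [← map_smul, smul_tmul', smul_eq_mul, mul_one, LinearMap.lTensor_tmul]
      rfl
  have hsurj₁ : Function.Surjective (mk₁.lTensor R) := LinearMap.lTensor_surjective R (Submodule.mkQ_surjective _)
  have hinj : Function.Injective Λ := by
    rw [injective_iff_map_eq_zero]
    intro x hx
    obtain ⟨y, rfl⟩ := hsurj₁ x
    rw [hΛ, Submodule.mkQ_apply] at hx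
    obtain ⟨b, hb⟩ := (hB _).1 ((Submodule.Quotient.mk_eq_zero (B'.comap Z'.subtype)).1 hx : _)
    have he : B.subtype.lTensor R b = Z.subtype.lTensor R y := hφ.1 hb
    let κ : Z →ₗ[K] C ⧸ B := B.mkQ.comp Z.subtype
    have hex : Function.Exact (B.comap Z.subtype).subtype κ := by
      rw [LinearMap.exact_iff, Submodule.range_subtype, LinearMap.ker_comp, Submodule.ker_mkQ]
    have h0 : κ.lTensor R y = 0 := by
      rw [LinearMap.lTensor_comp, LinearMap.comp_apply, ← he, ← LinearMap.comp_apply, ← LinearMap.lTensor_comp]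
      have : B.mkQ.comp B.subtype = 0 := LinearMap.ext fun b => (Submodule.Quotient.mk_eq_zero _).2 b.2
      rw [this, LinearMap.lTensor_zero]
      rfl
    obtain ⟨y', hy'⟩ := ((Module.Flat.lTensor_exact R hex) y).1 h0
    rw [← hy', ← LinearMap.comp_apply, ← LinearMap.lTensor_comp]
    have : mk₁.comp (B.comap Z.subtype).subtype = 0 := LinearMap.ext fun b => (Submodule.Quotient.mk_eq_zero _).2 b.2
    rw [this, LinearMap.lTensor_zero]
    rfl
  have hsurj : Function.Surjective Λ := by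
    intro t
    obtain ⟨⟨c', hc'⟩, rfl⟩ := Submodule.mkQ_surjective _ t
    obtain ⟨y, rfl⟩ := (hZ _).1 hc'
    exact ⟨mk₁.lTensor R y, hΛ y⟩
  refine ⟨LinearEquiv.ofBijective Λ ⟨hinj, hsurj⟩, fun r z hz => ?_⟩
  show Λ (mk₁.lTensor R (r ⊗ₜ[K] z)) = _
  rw [hΛ]
  exact congrArg _ (Subtype.ext (congrArg φ (LinearMap.lTensor_tmul R _ _ _)))

section Cochain

variable (K : Type u) [Field K] (A : Type v) [CommRing A] [HopfAlgebra K A]
  (V : Type v) [AddCommGroup V] [Module K V]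
  (R : Type w) [CommRing R] [Algebra K R]
  (φ : ∀ n : ℕ, R ⊗[K] (Hoch.cochain K A V n) →ₗ[R] (Hoch.cochain R (R ⊗[K] A) (R ⊗[K] V) n))

theorem bijective_phi (hφ0 : ∀ x : R ⊗[K] V, φ 0 x = x)
    (hφs : ∀ (n : ℕ) (r : R) (c : Hoch.cochain K A V n) (a : A),
      φ (n + 1) (r ⊗ₜ[K] (c ⊗ₜ[K] a)) = (φ n (r ⊗ₜ[K] c)) ⊗ₜ[R] ((1 : R) ⊗ₜ[K] a)) :
    ∀ n : ℕ, Function.Bijective (φ n) := by
  intro n
  induction n with
  | zero => exact ⟨fun x y h => by rwa [hφ0, hφ0] at h, fun y => ⟨y, hφ0 y⟩⟩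
  | succ n ih =>
    let e := (AlgebraTensorModule.distribBaseChange K R (Hoch.cochain K A V n) A).trans
      (TensorProduct.congr (LinearEquiv.ofBijective (φ n) ih) (LinearEquiv.refl R (R ⊗[K] A)))
    have he : φ (n + 1) = e.toLinearMap := by
      refine LinearMap.ext fun z => ?_
      induction z using TensorProduct.induction_on with
      | zero => simp
      | add a b ha hb => rw [map_add, map_add, ha, hb]
      | tmul r x =>
        induction x using TensorProduct.induction_on with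
        | zero => simp
        | add a b ha hb => rw [tmul_add, map_add, map_add, ha, hb]
        | tmul c a =>
          rw [hφs]
          simp [e, AlgebraTensorModule.distribBaseChange]
    rw [he]
    exact e.bijective

/-- The map `A ⊗ A → (R ⊗ A) ⊗ (R ⊗ A)`. -/
def iota2 : A ⊗[K] A →ₗ[K] (R ⊗[K] A) ⊗[R] (R ⊗[K] A) :=
  ((AlgebraTensorModule.distribBaseChange K R A A).toLinearMap.restrictScalars K).comp (TensorProduct.mk K R (A ⊗[K] A) 1)

theorem iota2_tmul (a b : A) : iota2 K A R (a ⊗ₜ[K] b) = ((1 : R) ⊗ₜ[K] a) ⊗ₜ[R] ((1 : R) ⊗ₜ[K] b) := by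
  simp [iota2, AlgebraTensorModule.distribBaseChange]

theorem comul_one_tmul (a : A) :
    Coalgebra.comul (R := R) ((1 : R) ⊗ₜ[K] a) = iota2 K A R (Coalgebra.comul (R := K) a) := by
  rw [TensorProduct.comul_tmul]
  generalize Coalgebra.comul (R := K) a = x
  induction x using TensorProduct.induction_on with
  | zero => simp
  | add a b ha hb => simp only [tmul_add, map_add, ha, hb]
  | tmul a b => rw [iota2_tmul]; rfl

theorem phi_d [HopfRep.Comod K A V] (hφ0 : ∀ x : R ⊗[K] V, φ 0 x = x)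
    (hφs : ∀ (n : ℕ) (r : R) (c : Hoch.cochain K A V n) (a : A),
      φ (n + 1) (r ⊗ₜ[K] (c ⊗ₜ[K] a)) = (φ n (r ⊗ₜ[K] c)) ⊗ₜ[R] ((1 : R) ⊗ₜ[K] a)) :
    letI := CoactBr.Comod.baseChange K R A V
    ∀ (n : ℕ) (r : R) (c : Hoch.cochain K A V n),
      φ (n + 1) (r ⊗ₜ[K] Hoch.d K A V n c) = Hoch.d R (R ⊗[K] A) (R ⊗[K] V) n (φ n (r ⊗ₜ[K] c)) := by
  letI := CoactBr.Comod.baseChange K R A V
  intro n
  induction n with
  | zero =>
    intro r v
    rw [hφ0, Hoch.d_zero_apply, Hoch.d_zero_apply, tmul_sub, map_sub]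
    have hA : ∀ x : V ⊗[K] A, φ 1 (r ⊗ₜ[K] x) =
        AlgebraTensorModule.tensorTensorTensorComm K R K R R R V A (((1 : R) ⊗ₜ[R] r) ⊗ₜ[K] x) := by
      intro x
      induction x using TensorProduct.induction_on with
      | zero => simp
      | add a b ha hb => rw [tmul_add, map_add, ha, hb, tmul_add, map_add]
      | tmul b a =>
        rw [hφs, hφ0]
        show _ = ((1 : R) ⊗ₜ[K] b) ⊗ₜ[R] (r ⊗ₜ[K] a)
        have h1 : r ⊗ₜ[K] b = r • ((1 : R) ⊗ₜ[K] b) := by rw [smul_tmul', smul_eq_mul, mul_one]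
        have h2 : r ⊗ₜ[K] a = r • ((1 : R) ⊗ₜ[K] a) := by rw [smul_tmul', smul_eq_mul, mul_one]
        rw [h1, h2, TensorProduct.smul_tmul]
    rw [hA]
    congr 1
    rw [hφs, hφ0]
    rfl
  | succ n ih =>
    intro r x
    induction x using TensorProduct.induction_on with
    | zero => simp only [map_zero, tmul_zero]
    | add a b ha hb => rw [map_add, tmul_add, map_add, ha, hb, tmul_add, map_add, map_add]
    | tmul c a =>
      rw [hφs]
      simp only [Hoch.d_succ, LinearMap.add_apply, LinearMap.smul_apply, LinearMap.rTensor_tmul, Hoch.tail_tmul,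
        tmul_add, map_add, tmul_smul, LinearMap.map_smul_of_tower]
      refine congrArg₂ (· + ·) ?_ ?_
      · rw [hφs, ih]
      · have hs : ((-1 : K) ^ (n + 1)) • (1 : R) = ((-1 : R) ^ (n + 1)) := by
          rw [Algebra.smul_def, mul_one, map_pow, map_neg, map_one]
        have key : ∀ y : A ⊗[K] A, φ (n + 2) (r ⊗ₜ[K] (TensorProduct.assoc K (Hoch.cochain K A V n) A A).symm (c ⊗ₜ[K] y)) =
            (TensorProduct.assoc R (Hoch.cochain R (R ⊗[K] A) (R ⊗[K] V) n) (R ⊗[K] A) (R ⊗[K] A)).symm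
              (φ n (r ⊗ₜ[K] c) ⊗ₜ[R] iota2 K A R y) := by
          intro y
          induction y using TensorProduct.induction_on with
          | zero => simp
          | add a b ha hb => simp only [map_add, tmul_add, ha, hb]
          | tmul a b =>
            rw [iota2_tmul, TensorProduct.assoc_symm_tmul, TensorProduct.assoc_symm_tmul, hφs, hφs]
        rw [← algebraMap_smul R ((-1 : K) ^ (n + 1)) (r ⊗ₜ[K] _), map_smul, key, map_pow, map_neg, map_one, map_sub,
          map_sub, iota2_tmul, iota2_tmul, ← comul_one_tmul, Algebra.TensorProduct.one_def]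

theorem mem_iff_range [HopfRep.Comod K A V] (hφ0 : ∀ x : R ⊗[K] V, φ 0 x = x)
    (hφs : ∀ (n : ℕ) (r : R) (c : Hoch.cochain K A V n) (a : A),
      φ (n + 1) (r ⊗ₜ[K] (c ⊗ₜ[K] a)) = (φ n (r ⊗ₜ[K] c)) ⊗ₜ[R] ((1 : R) ⊗ₜ[K] a)) :
    letI := CoactBr.Comod.baseChange K R A V
    (∀ (n : ℕ) (x : R ⊗[K] (Hoch.cochain K A V n)),
        φ (n + 1) ((Hoch.d K A V n).baseChange R x) = Hoch.d R (R ⊗[K] A) (R ⊗[K] V) n (φ n x)) ∧
    (∀ (n : ℕ) (c' : Hoch.cochain R (R ⊗[K] A) (R ⊗[K] V) n), c' ∈ Hoch.cocycles R (R ⊗[K] A) (R ⊗[K] V) n ↔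
      ∃ y : R ⊗[K] Hoch.cocycles K A V n, φ n ((Hoch.cocycles K A V n).subtype.lTensor R y) = c') ∧
    (∀ (n : ℕ) (c' : Hoch.cochain R (R ⊗[K] A) (R ⊗[K] V) n), c' ∈ Hoch.coboundaries R (R ⊗[K] A) (R ⊗[K] V) n ↔
      ∃ y : R ⊗[K] Hoch.coboundaries K A V n, φ n ((Hoch.coboundaries K A V n).subtype.lTensor R y) = c') := by
  letI := CoactBr.Comod.baseChange K R A V
  have hbij := bijective_phi K A V R φ hφ0 hφs
  have hd : ∀ (n : ℕ) (x : R ⊗[K] (Hoch.cochain K A V n)),
      φ (n + 1) ((Hoch.d K A V n).baseChange R x) = Hoch.d R (R ⊗[K] A) (R ⊗[K] V) n (φ n x) := by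
    intro n x
    induction x using TensorProduct.induction_on with
    | zero => simp
    | add a b ha hb => simp only [map_add, ha, hb]
    | tmul r c => rw [LinearMap.baseChange_tmul]; exact phi_d K A V R φ hφ0 hφs n r c
  refine ⟨hd, ?_, ?_⟩
  · intro n c'
    obtain ⟨x, rfl⟩ := (hbij n).2 c'
    have hex : Function.Exact (Hoch.cocycles K A V n).subtype (Hoch.d K A V n) := by
      rw [LinearMap.exact_iff, Submodule.range_subtype]
      rfl
    refine ⟨fun h => ?_, fun ⟨y, hy⟩ => ?_⟩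
    · have h1 : (Hoch.d K A V n).baseChange R x = 0 :=
        (hbij (n + 1)).1 ((hd n x).trans ((LinearMap.mem_ker.1 h).trans (map_zero _).symm))
      obtain ⟨y, hy⟩ := (Module.Flat.lTensor_exact R hex x).1 (by rwa [LinearMap.baseChange_eq_ltensor] at h1)
      exact ⟨y, by rw [hy]⟩
    · rw [← hy]
      refine LinearMap.mem_ker.2 ?_
      rw [← hd, LinearMap.baseChange_eq_ltensor,
        (Module.Flat.lTensor_exact R hex _).2 ⟨y, rfl⟩, map_zero]
  · intro n c'
    cases n with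
    | zero =>
      show c' ∈ (⊥ : Submodule R _) ↔ _
      rw [Submodule.mem_bot]
      haveI : Subsingleton (R ⊗[K] Hoch.coboundaries K A V 0) := by
        haveI : Subsingleton (Hoch.coboundaries K A V 0) := Submodule.subsingleton_iff_eq_bot.2 rfl
        infer_instance
      exact ⟨fun h => ⟨0, by rw [map_zero, map_zero, h]⟩, fun ⟨y, hy⟩ => by
        rw [← hy, Subsingleton.elim y 0, map_zero, map_zero]⟩
    | succ m =>
      show c' ∈ LinearMap.range (Hoch.d R (R ⊗[K] A) (R ⊗[K] V) m) ↔ _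
      have hr := LinearMap.lTensor_surjective R (LinearMap.surjective_rangeRestrict (Hoch.d K A V m))
      have hc : ∀ x, (Hoch.coboundaries K A V (m + 1)).subtype.lTensor R ((Hoch.d K A V m).rangeRestrict.lTensor R x) =
          (Hoch.d K A V m).baseChange R x := fun x => by
        exact LinearMap.congr_fun (g := (Hoch.d K A V m).lTensor R)
          ((LinearMap.lTensor_comp R (Hoch.coboundaries K A V (m + 1)).subtype (Hoch.d K A V m).rangeRestrict).symm.trans
            (congrArg (LinearMap.lTensor R) (LinearMap.ext fun _ => rfl))) x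
      refine ⟨fun ⟨z, hz⟩ => ?_, fun ⟨y, hy⟩ => ?_⟩
      · obtain ⟨x, rfl⟩ := (hbij m).2 z
        exact ⟨(Hoch.d K A V m).rangeRestrict.lTensor R x, by rw [hc, hd, hz]⟩
      · obtain ⟨x, rfl⟩ := hr y
        exact ⟨φ m x, by rw [← hd, ← hc, hy]⟩

end Cochain

end Groth.Agent.HochLib.BaseChange
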